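import Groth.Agent.L21.Mero.Zero
import Groth.Prelude.Def_SecTwist

/-!
# A nonzero section of an invertible module is determined by its zero scheme up to a unit
-/

set_option autoImplicit false
set_option linter.style.haveILetI false
set_option backward.isDefEq.respectTransparency false
set_option backward.isDefEq.respectTransparency.types false

universe u

open CategoryTheory CategoryTheory.Limits AlgebraicGeometry TopologicalSpace Opposite

noncomputable section

namespace Groth.L18.ZeroSch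

open Groth.L18.Frame (rs ro rs_rs rs_self rs_smul ro_ro ro_self IsFrame)
open Groth.L18.GenLoc (secOf)

variable {X : Scheme.{u}} [IsIntegral X] {L : X.Modules} (hL : PicF.IsInvertible L)
  {s s' : Coh.structureModule X ⟶ L} (hs : s ≠ 0) (hs' : s' ≠ 0)

include hL hs in
theorem cancel {W : X.Opens} {r r' : Γ(X, W)}
    (h : r • rs L (le_top : W ≤ ⊤) (secOf s) = r' • rs L (le_top : W ≤ ⊤) (secOf s)) : r = r' := by
  refine TopCat.Presheaf.section_ext (⟨X.presheaf, X.IsSheaf⟩ : TopCat.Sheaf CommRingCat.{u} X.toTopCat) W _ _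
    fun x hx => ?_
  obtain ⟨U, e, hxU, hUW, he⟩ := Groth.L21.Mero.exists_frame_affine hL x hx
  obtain ⟨a, ha⟩ := he.exists_coeff le_rfl (rs L le_top (secOf s))
  rw [rs_self] at ha
  have h' := congrArg (rs L hUW) h
  rw [rs_smul, rs_smul, rs_rs] at h'
  rw [← ha, smul_smul, smul_smul] at h'
  have h2 : ro hUW r * a = ro hUW r' * a := he.inj le_rfl (by rw [rs_self]; exact h')
  have h3 := congrArg (X.presheaf.germ U.1 x hxU) h2
  rw [map_mul, map_mul] at h3
  have h4 := mul_right_cancel₀ (Groth.L21.Mero.coeff_ne_zero hL hs ha hxU) h3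
  exact ((TopCat.Presheaf.germ_res_apply X.presheaf (homOfLE hUW) x hxU r).symm.trans h4).trans
    (TopCat.Presheaf.germ_res_apply X.presheaf (homOfLE hUW) x hxU r')

include hL hs hs' in
theorem exists_unit (h : PicF2.zeroScheme L s' = PicF2.zeroScheme L s) :
    ∃ u : Γ(X, ⊤), IsUnit u ∧ secOf s' = u • secOf s := by
  classical
  have hloc : ∀ x : X, ∃ (U : X.affineOpens) (v : Γ(X, U.1)), x ∈ U.1 ∧
      rs L (le_top : U.1 ≤ ⊤) (secOf s') = v • rs L (le_top : U.1 ≤ ⊤) (secOf s) ∧ IsUnit v := by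
    intro x
    obtain ⟨U, e, hxU, -, he⟩ := Groth.L21.Mero.exists_frame_affine hL x (O := ⊤) trivial
    haveI : Nonempty U.1 := ⟨⟨x, hxU⟩⟩
    obtain ⟨a, ha⟩ := he.exists_coeff le_rfl (rs L le_top (secOf s))
    obtain ⟨a', ha'⟩ := he.exists_coeff le_rfl (rs L le_top (secOf s'))
    rw [rs_self] at ha ha'
    have e1 := congrArg (fun I : X.IdealSheafData => I.ideal U) h
    simp only [Groth.L21.Mero.zeroScheme_ideal_frame hL s U he ha,
      Groth.L21.Mero.zeroScheme_ideal_frame hL s' U he ha'] at e1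
    obtain ⟨v, hv⟩ := Ideal.span_singleton_eq_span_singleton.1 e1.symm
    exact ⟨U, v, hxU, by rw [← ha, ← ha', smul_smul, ← hv, mul_comm], v.isUnit⟩
  choose U v hxU hv hunit using hloc
  let OX : TopCat.Sheaf CommRingCat.{u} X.toTopCat := ⟨X.presheaf, X.IsSheaf⟩
  let OL : TopCat.Sheaf Ab.{u} X.toTopCat := ⟨L.presheaf, L.isSheaf⟩
  have hc : (⊤ : X.Opens) ≤ ⨆ x, (U x).1 := fun x _ => Opens.mem_iSup.2 ⟨x, hxU x⟩
  have hcompat : TopCat.Presheaf.IsCompatible X.presheaf (fun x => (U x).1) v := fun x y => by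
    refine cancel hL hs ?_
    have e1 := congrArg (rs L (inf_le_left : (U x).1 ⊓ (U y).1 ≤ _)) (hv x)
    have e2 := congrArg (rs L (inf_le_right : (U x).1 ⊓ (U y).1 ≤ _)) (hv y)
    rw [rs_smul, rs_rs, rs_rs] at e1 e2
    exact e1.symm.trans e2
  obtain ⟨g, hg⟩ := (OX.existsUnique_gluing' (fun x => (U x).1) ⊤ (fun x => homOfLE le_top) hc v hcompat).exists
  refine ⟨g, ?_, OL.eq_of_locally_eq' (fun x => (U x).1) ⊤ (fun x => homOfLE le_top) hc _ _ fun x => ?_⟩
  · refine RingedSpace.isUnit_of_isUnit_germ X.toRingedSpace ⊤ g fun x _ => ?_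
    have h1 := (hunit x).map (X.presheaf.germ (U x).1 x (hxU x)).hom
    have h2 : X.presheaf.germ (U x).1 x (hxU x) (v x) = X.presheaf.germ ⊤ x trivial g := by
      rw [← hg x]
      exact TopCat.Presheaf.germ_res_apply X.presheaf (homOfLE le_top) x (hxU x) g
    exact Eq.mp (congrArg IsUnit h2) h1
  · show rs L le_top (secOf s') = rs L le_top ((show Γ(X, ⊤) from g) • secOf s)
    rw [rs_smul, hv x]
    exact congrArg (· • _) (hg x).symm

omit [IsIntegral X] in
theorem zeroScheme_eq_of_smul {u : Γ(X, ⊤)} (hu : IsUnit u) (h : secOf s' = u • secOf s) :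
    PicF2.zeroScheme L s' = PicF2.zeroScheme L s := by
  refine congrArg Scheme.IdealSheafData.ofIdeals (funext fun U => ?_)
  show Groth.L22.ZeroScheme.idealOn s' U.1 = Groth.L22.ZeroScheme.idealOn s U.1
  obtain ⟨w, hw⟩ := (hu.map (X.presheaf.map (homOfLE (le_top : U.1 ≤ ⊤)).op).hom).exists_left_inv
  ext a
  simp only [Groth.L22.ZeroScheme.mem_idealOn_iff, h, rs_smul]
  refine forall_congr' fun m => ⟨fun ⟨b, hb⟩ => ⟨b * ro le_top u, by rw [hb, smul_smul]⟩,
    fun ⟨b, hb⟩ => ⟨b * w, ?_⟩⟩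
  rw [hb, smul_smul, _root_.mul_assoc, show w * ro le_top u = 1 from hw, _root_.mul_one]

end Groth.L18.ZeroSch
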